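import Groth.Agent.EtCoh.K141.OpenStep
import Groth.Agent.Hensel.K141.Chain

/-!
# Iterated completions and the cohomology of torsion sheaves

`HEq f U`: pullback along `f⁻¹ U → U` is bijective on the cohomology of torsion sheaves.
Everything is deduced from `PStat` (the principal case).
-/

set_option autoImplicit false
universe u

open CategoryTheory CategoryTheory.Limits AlgebraicGeometry TensorProduct
open Groth.Agent.Pi1A.FEtAffine Groth.Agent.Sga4h.UlaGood Groth.Agent.Etrest.StrictLoc
open Groth.Agent K141.OpenStep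

namespace K141

/-- Pullback along `f⁻¹ U → U` is bijective on the cohomology of torsion sheaves. -/
def HEq {X Y : Scheme.{u}} (f : X ⟶ Y) (U : Y.Opens) : Prop :=
  ∀ F : EtCoh.Ab (U : Scheme.{u}), EtCoh.IsTorsion F → HI (f ∣_ U) F

namespace HEq

variable {X Y Z : Scheme.{u}}

theorem comp {f : X ⟶ Y} {g : Y ⟶ Z} {U : Z.Opens} (hf : HEq f (g ⁻¹ᵁ U)) (hg : HEq g U) :
    HEq (f ≫ g) U := fun F hF =>
  HI.comp (morphismRestrict_comp f g U).symm (hg F hF)
    (hf _ (Etcore.Torsion.isTorsion_pull _ F hF))

theorem of_comp_left {f : X ⟶ Y} {g : Y ⟶ Z} {U : Z.Opens} (hf : HEq f (g ⁻¹ᵁ U))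
    (hfg : HEq (f ≫ g) U) : HEq g U := fun F hF =>
  HI.of_comp_right (morphismRestrict_comp f g U).symm
    (hf _ (Etcore.Torsion.isTorsion_pull _ F hF)) (hfg F hF)

theorem of_isIso (f : X ⟶ Y) [IsIso f] (U : Y.Opens) : HEq f U := fun F _ =>
  HI.of_isIso (f ∣_ U) F

theorem of_surjective (f : X ⟶ Y) [IsClosedImmersion f] [Surjective f] (U : Y.Opens) : HEq f U := by
  have h1 : IsClosedImmersion (f ∣_ U) :=
    MorphismProperty.of_isPullback (isPullback_morphismRestrict f U).flip inferInstance
  have h2 : Surjective (f ∣_ U) :=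
    MorphismProperty.of_isPullback (isPullback_morphismRestrict f U).flip inferInstance
  exact fun F _ => hi_of_surjective (f ∣_ U) F

end HEq

theorem HEq.of_nil {A : Type u} [CommRing A] (J : Ideal A) (hJ : J ≤ nilradical A)
    (U : (Spec (CommRingCat.of A)).Opens) : HEq (specMap A (A ⧸ J)) U := by
  have h1 : IsClosedImmersion (specMap A (A ⧸ J)) :=
    IsClosedImmersion.spec_of_surjective _ Ideal.Quotient.mk_surjective
  have h2 : Surjective (specMap A (A ⧸ J)) := by
    constructor
    intro x
    have h3 : x ∈ Set.range (PrimeSpectrum.comap (Ideal.Quotient.mk J)) := by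
      rw [range_comap_of_surjective _ _ Ideal.Quotient.mk_surjective, Ideal.mk_ker]
      exact hJ.trans (@nilradical_le_prime _ _ _ (PrimeSpectrum.isPrime x))
    exact h3
  exact HEq.of_surjective _ U

theorem HEq.principal (hP : PStat.{u}) {A B : Type u} [CommRing A] [CommRing B] (φ : A →+* B) (t : A)
    (hA : HenselianRing A (Ideal.span {t})) (hB : HenselianRing B (Ideal.span {φ t}))
    (hc : Cong φ t) (U : (Spec (CommRingCat.of A)).Opens)
    (hU : ∀ x : Spec (CommRingCat.of A), x ∉ U → t ∈ x.asIdeal) :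
    HEq (Spec.map (CommRingCat.ofHom φ)) U := by
  let _ : Algebra A B := φ.toAlgebra
  have hB' : HenselianRing B (Ideal.span {algebraMap A B t}) := hB
  exact fun F hF => hi_restrict (A := A) (B := B) (t := t) U hP hc hU F hF

theorem exists_hchain (hP : PStat.{u}) (A : Type u) [CommRing A] (I : Ideal A) [hAI : HenselianRing A I]
    (U : (Spec (CommRingCat.of A)).Opens)     (hU : ∀ x : Spec (CommRingCat.of A), x ∉ U → I ≤ x.asIdeal) :
    ∀ (ts : List A), (∀ t ∈ ts, t ∈ I) →
    ∃ (S : Type u) (_ : CommRing S) (_ : Algebra A S), HenselianRing S (I.map (algebraMap A S)) ∧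
      HEq (specMap A S) U ∧
      (∀ (n : ℕ) (s : S), ∃ a : A, s - algebraMap A S a ∈ (I.map (algebraMap A S)) ^ n) ∧
      (∀ (n : ℕ) (a : A), algebraMap A S a ∈ (I.map (algebraMap A S)) ^ n → a ∈ I ^ n) ∧
      ∀ t ∈ ts, DC (algebraMap A S t) (⊥ : Ideal S)
  | [], _ => by
    have h1 : I.map (algebraMap A A) = I := Ideal.map_id I
    refine ⟨A, inferInstance, inferInstance, by rw [h1]; exact hAI, ?_, ?_, ?_, by simp⟩
    · have h2 : specMap A A = 𝟙 _ := by
        change Spec.map (CommRingCat.ofHom (RingHom.id A)) = _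
        rw [CommRingCat.ofHom_id, Spec.map_id]
      rw [h2]
      exact HEq.of_isIso _ U
    · intro n s
      exact ⟨s, by rw [Algebra.algebraMap_self_apply, sub_self]; exact Ideal.zero_mem _⟩
    · intro n a ha
      rw [h1] at ha
      exact ha
  | t :: ts, hts => by
    obtain ⟨B, _, _, hB1, hB2, hB3, hB4, hB5⟩ := exists_hchain hP A I U hU ts
      fun t' ht' => hts t' (List.mem_cons_of_mem _ ht')
    set s := algebraMap A B t with hs
    set J : Ideal B := Ideal.span {s} with hJ
    have htI : t ∈ I := hts t List.mem_cons_self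
    have hJI : J ≤ I.map (algebraMap A B) := by
      rw [hJ, Ideal.span_singleton_le_iff_mem]
      exact Ideal.mem_map_of_mem _ htI
    obtain ⟨C, _, _, hC⟩ : ∃ (C : Type u) (_ : CommRing C) (_ : Algebra B C), K730.CP J C :=
      ⟨AdicCompletion J B, inferInstance, inferInstance,
        K730.CP.of_adicCompletion J ⟨{s}, by simp [hJ]⟩⟩
    let _ : Algebra A C := ((algebraMap B C).comp (algebraMap A B)).toAlgebra
    have tow : IsScalarTower A B C := IsScalarTower.of_algebraMap_eq fun _ => rfl
    have hmap : I.map (algebraMap A C) = (I.map (algebraMap A B)).map (algebraMap B C) := by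
      rw [Ideal.map_map]; rfl
    have hhB : HenselianRing B (Ideal.span {s}) := ((Groth.Agent.S0528.result B J _ hJI).mp hB1).1
    have hhC : HenselianRing C (Ideal.span {algebraMap B C s}) := henselian_of_cp s C hC
    have hcong : Cong (algebraMap B C) s := Cong.of_cp s C hC
    have hcompl : IsAdicComplete (Ideal.span {algebraMap B C s}) C := by
      have h1 := hC.complete
      rw [hJ, Ideal.map_span, Set.image_singleton] at h1
      exact h1
    refine ⟨C, inferInstance, inferInstance, ?_, ?_, ?_, ?_, ?_⟩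
    · rw [hmap]
      exact hC.henselian hJI
    · have h1 : specMap A C = specMap B C ≫ specMap A B := by
        rw [← Spec.map_comp]
        rfl
      rw [h1]
      refine HEq.comp (HEq.principal hP (algebraMap B C) s hhB hhC hcong _ ?_) hB2
      intro x hx
      have h2 := hU _ hx htI
      exact h2
    · intro n c
      obtain ⟨b, hb⟩ := hC.d' ((I.map (algebraMap A B)) ^ n) (Ideal.pow_right_mono hJI n) c
      obtain ⟨a, ha⟩ := hB3 n b
      refine ⟨a, ?_⟩
      rw [hmap, ← Ideal.map_pow]
      have h1 : c - algebraMap A C a = (c - algebraMap B C b) +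
          algebraMap B C (b - algebraMap A B a) := by
        rw [map_sub, IsScalarTower.algebraMap_apply A B C]
        ring
      rw [h1]
      exact Ideal.add_mem _ hb (Ideal.mem_map_of_mem _ ha)
    · intro n a ha
      rw [hmap, ← Ideal.map_pow, IsScalarTower.algebraMap_apply A B C] at ha
      exact hB4 n a (hC.i' ((I.map (algebraMap A B)) ^ n) (Ideal.pow_right_mono hJI n) _ ha)
    · intro t' ht'
      rcases List.mem_cons.mp ht' with rfl | ht'
      · rw [IsScalarTower.algebraMap_apply A B C]
        exact DC.of_isAdicComplete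
      · rw [IsScalarTower.algebraMap_apply A B C]
        refine DC.of_complete (algebraMap B C s) fun m => ?_
        have h1 := (hB5 t' ht').sup_span (s ^ m)
        rw [bot_sup_eq] at h1
        have h2 : Ideal.span {algebraMap B C s ^ m} = (Ideal.span {s ^ m}).map (algebraMap B C) := by
          rw [Ideal.map_span, Set.image_singleton, map_pow]
        have h3 : J ^ m ≤ Ideal.span {s ^ m} := by rw [hJ, Ideal.span_singleton_pow]
        rw [h2]
        exact h1.map (algebraMap B C) _ (hC.d' _ h3) (hC.i' _ h3)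
          (fun a ha => Ideal.mem_map_of_mem _ ha)

/-- **Gabber's rigidity**: cohomology of torsion sheaves and completions. -/
theorem HEq.completion (hP : PStat.{u}) (A : Type u) [CommRing A] (I : Ideal A) (hI : I.FG) [HenselianRing A I]
    (U : (Spec (CommRingCat.of A)).Opens)     (hU : ∀ x : Spec (CommRingCat.of A), x ∉ U → I ≤ x.asIdeal)
    (C : Type u) [CommRing C] [Algebra A C] (hC : K730.CP I C) : HEq (specMap A C) U := by
  obtain ⟨ts, hts⟩ : ∃ ts : List A, I = Ideal.ofList ts := by
    obtain ⟨s, hs⟩ := hI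
    refine ⟨s.toList, ?_⟩
    rw [← hs]
    congr 1
    ext x
    simp
  obtain ⟨S, _, _, -, h2, h3, h4, h5⟩ := exists_hchain hP A I U hU ts (fun t ht => by
    rw [hts]
    exact Ideal.subset_span ht)
  obtain ⟨J, hJ1, hJ2⟩ := exists_cp A I ts hts S h3 h4 h5
  have h6 : HEq (specMap A (S ⧸ J)) U := by
    have h7 : specMap A (S ⧸ J) = specMap S (S ⧸ J) ≫ specMap A S := by
      rw [← Spec.map_comp]
      rfl
    rw [h7]
    exact HEq.comp (HEq.of_nil J hJ1 _) h2
  obtain ⟨e₁⟩ := hC.exists_algEquiv
  obtain ⟨e₂⟩ := hJ2.exists_algEquiv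
  let e : C ≃ₐ[A] S ⧸ J := e₁.symm.trans e₂
  let k : Spec (CommRingCat.of (S ⧸ J)) ⟶ Spec (CommRingCat.of C) :=
    Spec.map (CommRingCat.ofHom e.toRingEquiv.toRingHom)
  have hk : IsIso k := by
    have : IsIso (CommRingCat.ofHom e.toRingEquiv.toRingHom) :=
      inferInstanceAs (IsIso e.toRingEquiv.toCommRingCatIso.hom)
    infer_instance
  have hk2 : k ≫ specMap A C = specMap A (S ⧸ J) := by
    rw [← Spec.map_comp]
    congr 1
    ext a
    exact e.commutes a
  rw [← hk2] at h6
  exact HEq.of_comp_left (HEq.of_isIso k _) h6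

/-- **Rigidity of the cohomology of torsion sheaves**: `A/J^n = A'/J^nA'`. -/
theorem HEq.of_quotients (hP : PStat.{u}) (A A' : Type u) [CommRing A] [CommRing A'] (φ : A →+* A')
    (J : Ideal A) (hJ : J.FG) [HenselianRing A J] [HenselianRing A' (J.map φ)]
    (hq : ∀ n : ℕ, Function.Bijective (Ideal.quotientMap (Ideal.map φ (J ^ n)) φ Ideal.le_comap_map))
    (U : (Spec (CommRingCat.of A)).Opens) (hU' : ∀ x : Spec (CommRingCat.of A), x ∉ U → J ≤ x.asIdeal) :
    HEq (Spec.map (CommRingCat.ofHom φ)) U := by
  let _ : Algebra A A' := φ.toAlgebra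
  have hJ' : (J.map (algebraMap A A')).FG := hJ.map _
  let C := AdicCompletion (J.map (algebraMap A A')) A'
  have hC : K730.CP (J.map (algebraMap A A')) C := K730.CP.of_adicCompletion _ hJ'
  have h1 : HEq (specMap A' C) (specMap A A' ⁻¹ᵁ U) := by
    have hh : HenselianRing A' (J.map (algebraMap A A')) := ‹HenselianRing A' (J.map φ)›
    refine HEq.completion hP A' (J.map (algebraMap A A')) hJ' _ ?_ C hC
    intro x hx
    rw [Ideal.map_le_iff_le_comap]
    exact hU' _ hx
  let _ : Algebra A C := ((algebraMap A' C).comp (algebraMap A A')).toAlgebra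
  have h2 : K730.CP J C := by
    have hmap : J.map (algebraMap A C) = (J.map (algebraMap A A')).map (algebraMap A' C) := by
      rw [Ideal.map_map]; rfl
    refine ⟨by rw [hmap]; exact hC.complete, ?_, ?_⟩
    · intro n s
      obtain ⟨b, hb⟩ := hC.d n s
      obtain ⟨a, ha⟩ := (hq n).2 (Ideal.Quotient.mk _ b)
      obtain ⟨a, rfl⟩ := Ideal.Quotient.mk_surjective a
      rw [Ideal.quotientMap_mk, eq_comm, Ideal.Quotient.mk_eq_mk_iff_sub_mem] at ha
      refine ⟨a, ?_⟩
      rw [hmap]
      have h1 : s - algebraMap A C a = (s - algebraMap A' C b) +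
          algebraMap A' C (b - algebraMap A A' a) := by
        rw [map_sub]
        change _ = (s - algebraMap A' C b) + (algebraMap A' C b - algebraMap A C a)
        ring
      rw [h1]
      refine Ideal.add_mem _ hb ?_
      rw [← Ideal.map_pow]
      refine Ideal.mem_map_of_mem _ ?_
      rw [← Ideal.map_pow]
      exact ha
    · intro n a ha
      rw [hmap] at ha
      have h3 := hC.i n (algebraMap A A' a) ha
      rw [← Ideal.map_pow] at h3
      have h4 : Ideal.quotientMap (Ideal.map φ (J ^ n)) φ Ideal.le_comap_map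
          (Ideal.Quotient.mk _ a) = 0 := by
        rw [Ideal.quotientMap_mk, Ideal.Quotient.eq_zero_iff_mem]
        exact h3
      have h5 := (injective_iff_map_eq_zero _).mp (hq n).1 _ h4
      exact Ideal.Quotient.eq_zero_iff_mem.mp h5
  have h3 := HEq.completion hP A J hJ U hU' C h2
  have h4 : specMap A C = specMap A' C ≫ specMap A A' := by
    rw [← Spec.map_comp]
    rfl
  rw [h4] at h3
  exact HEq.of_comp_left h1 h3

end K141
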