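import Groth.Agent.Sga4h.H915.HIFin
import Groth.Agent.Etbc.H233.Shift
import Groth.Agent.EtpbcA.RpushTors
import Groth.Agent.EtpbcB.TorsionBasic
import Groth.Agent.EtpbcA.PullFLC
import Groth.Agent.Etrest.AcycTors
import Groth.Agent.SGA4h.K557.BcQ

/-!
# Cohomological isomorphisms: a criterion with an open and a closed part

* `HI.middle`, `HI.biprod`, `HI.of_embed`: closure properties of `HI f`.
* `hi_of_open_closed`: let `f : X' ⟶ X`, `i : Z ⟶ X` a closed immersion, `j : D ⟶ X` the complementary open immersion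
  (qcqs); if `Z' → Z` is an isomorphism, `HI (D' → D) G` holds for torsion sheaves and the base change maps
  `f⁻¹ R^q j_* G → R^q j'_* G'` are isomorphisms for torsion sheaves `G`, then `HI f F` holds for all torsion sheaves.
-/

set_option autoImplicit false
universe u
open CategoryTheory CategoryTheory.Limits AlgebraicGeometry Opposite Abelian
open scoped Groth.Agent.Etcore.EtInst
open Groth.Agent.Etcore.EtInst Groth.Agent.Etcore.HpullCalc

namespace K141.HIStep

open Groth.Agent Groth.Agent.Sga4h.UlaGood Groth.Agent.EtpbcB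

variable {X Y X' : Scheme.{u}}

theorem HI.middle (f : X ⟶ Y) {S : ShortComplex (EtCoh.Ab Y)} (hS : S.ShortExact) (h1 : HI f S.X₁)
    (h3 : HI f S.X₃) : HI f S.X₂ := fun q =>
  Etcore.ExtMap.bijective₂_all (EtCoh.pull f) (EtCore.pullConst f ℤ).inv hS h1 h3 q

theorem HI.biprod (f : X ⟶ Y) {F G : EtCoh.Ab Y} (h1 : HI f F) (h2 : HI f G) : HI f (F ⊞ G) :=
  HI.middle f (S := ShortComplex.mk (biprod.inl : F ⟶ F ⊞ G) (biprod.snd : F ⊞ G ⟶ G) (by simp))
    (ShortComplex.Splitting.ofHasBinaryBiproduct F G).shortExact h1 h2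

/-- If every sheaf of the class `P` embeds in a sheaf satisfying `HI f`, with cokernel in `P`. -/
theorem HI.of_embed (f : X ⟶ Y) (P : EtCoh.Ab Y → Prop)
    (eff : ∀ F, P F → ∃ (J : EtCoh.Ab Y) (i : F ⟶ J), Mono i ∧ P (cokernel i) ∧ HI f J)
    (F : EtCoh.Ab Y) (hF : P F) : HI f F := by
  intro q
  have h1 := Etbc.H233.Shift.Rng.shift f (𝟙 Y) P q (fun F hF => by
    obtain ⟨J, i, hi, hc, hJ⟩ := eff F hF
    have hJ' : HI f ((EtCoh.pull (𝟙 Y)).obj J) :=
      HI.of_iso ((EtpbcA.PullFLC.pullId Y).symm.app J) hJ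
    exact ⟨J, i, hi, hc, fun q _ => hJ' q, (hJ' (q + 1)).1⟩) F hF
  exact bijective_hp_of_iso f ((EtpbcA.PullFLC.pullId Y).app F) (h1.1 q le_rfl)

section OpenPart

variable {D : Scheme.{u}} (j : D ⟶ X) [IsOpenImmersion j]

theorem isIso_counit (G : EtCoh.Ab D) : IsIso ((EtCoh.pullPushAdj j).counit.app G) := inferInstance

theorem isIso_unit_push (G : EtCoh.Ab D) :
    IsIso ((EtCoh.pullPushAdj j).unit.app ((EtCoh.push j).obj G)) := by
  have h := (EtCoh.pullPushAdj j).right_triangle_components G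
  have h1 : IsIso ((EtCoh.push j).map ((EtCoh.pullPushAdj j).counit.app G)) := inferInstance
  have h2 : IsIso ((EtCoh.pullPushAdj j).unit.app ((EtCoh.push j).obj G) ≫
      (EtCoh.push j).map ((EtCoh.pullPushAdj j).counit.app G)) := by
    rw [h]
    exact IsIso.id _
  exact IsIso.of_isIso_comp_right _ ((EtCoh.push j).map ((EtCoh.pullPushAdj j).counit.app G))

theorem isIso_unit_of_iso {G : EtCoh.Ab D} {M : EtCoh.Ab X} (e : M ≅ (EtCoh.push j).obj G) :
    IsIso ((EtCoh.pullPushAdj j).unit.app M) := by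
  have h1 := isIso_unit_push j G
  have h2 := (EtCoh.pullPushAdj j).unit.naturality e.hom
  have h3 : IsIso ((𝟭 _).map e.hom ≫ (EtCoh.pullPushAdj j).unit.app ((EtCoh.push j).obj G)) :=
    inferInstance
  rw [h2] at h3
  exact IsIso.of_isIso_comp_right _ ((EtCoh.pull j ⋙ EtCoh.push j).map e.hom)

theorem nonempty_pull_push (G : EtCoh.Ab D) {M : EtCoh.Ab X} (e : M ≅ (EtCoh.push j).obj G) :
    Nonempty ((EtCoh.pull j).obj M ≅ G) :=
  ⟨(EtCoh.pull j).mapIso e ≪≫ asIso ((EtCoh.pullPushAdj j).counit.app G)⟩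

/-- `HI j` for direct images of acyclic sheaves. -/
theorem hi_push (G : EtCoh.Ab D) (hG : ∀ q, 0 < q → IsZero ((EtCoh.Rpush j q).obj G))
    (M : EtCoh.Ab X) (e : M ≅ (EtCoh.push j).obj G) : HI j M := by
  have h1 := isIso_unit_of_iso j e
  obtain ⟨e'⟩ := nonempty_pull_push j G e
  rw [hi_iff_Hpull]
  intro q
  exact Etrest.HpullAcyc.Hpull_bijective j M h1
    (fun q hq => (hG q hq).of_iso ((EtCoh.Rpush j q).mapIso e')) q

end OpenPart

section Main

variable {D Z D' Z' : Scheme.{u}} (f : X' ⟶ X) (i : Z ⟶ X) [IsClosedImmersion i] (j : D ⟶ X)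
  [IsOpenImmersion j] (hd : IsCompl (Set.range i) (Set.range j)) (i' : Z' ⟶ X') (fZ : Z' ⟶ Z)
  (hZ : IsPullback i' fZ f i) [IsIso fZ] (j' : D' ⟶ X') (fD : D' ⟶ D) (hD : IsPullback j' fD f j)

include hZ in
/-- Sheaves supported on `Z`. -/
theorem hi_closed (K : EtCoh.Ab Z) : HI f ((EtCoh.push i).obj K) := by
  have hi' : IsClosedImmersion i' := MorphismProperty.of_isPullback hZ.flip inferInstance
  have hs : EtPBC.supp ((EtCoh.push i).obj K) ⊆ Set.range i := EtpbcA.SuppClosed.supp_push i _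
  have h1 : HI i ((EtCoh.push i).obj K) := hi_of_supp i _ hs
  have h2 : HI (fZ ≫ i) ((EtCoh.push i).obj K) := HI.comp rfl h1 (HI.of_isIso fZ _)
  have h3 : HI i' ((EtCoh.pull f).obj ((EtCoh.push i).obj K)) := by
    refine hi_of_supp i' _ ?_
    rw [EtpbcA.Artin.supp_pull, range_of_isPullback hZ.flip]
    exact Set.preimage_mono hs
  exact HI.of_comp_right hZ.w h3 h2

/-- Direct images from `D`. -/
theorem hi_open (G : EtCoh.Ab D) (hG : ∀ q, 0 < q → IsZero ((EtCoh.Rpush j q).obj G))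
    (hP : HI fD G) (hbc : ∀ q, IsIso (K557.BcQ.bq hD.w.symm q G)) :
    HI f ((EtCoh.push j).obj G) := by
  have hj' : IsOpenImmersion j' := MorphismProperty.of_isPullback hD.flip inferInstance
  have h1 : HI j ((EtCoh.push j).obj G) := hi_push j G hG _ (Iso.refl _)
  obtain ⟨e⟩ := nonempty_pull_push j G (Iso.refl ((EtCoh.push j).obj G))
  have h2 : HI (fD ≫ j) ((EtCoh.push j).obj G) := HI.comp rfl h1 (HI.of_iso e.symm hP)
  have h3 : ∀ q, Nonempty ((EtCoh.pull f).obj ((EtCoh.Rpush j q).obj G) ≅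
      (EtCoh.Rpush j' q).obj ((EtCoh.pull fD).obj G)) := fun q => by
    have := hbc q
    exact ⟨asIso (K557.BcQ.bq hD.w.symm q G)⟩
  have e0 : (EtCoh.pull f).obj ((EtCoh.push j).obj G) ≅
      (EtCoh.push j').obj ((EtCoh.pull fD).obj G) :=
    (EtCoh.pull f).mapIso ((EtCoh.push j).rightDerivedZeroIsoSelf.symm.app G) ≪≫
      (h3 0).some ≪≫ (EtCoh.push j').rightDerivedZeroIsoSelf.app _
  have h4 : HI j' ((EtCoh.pull f).obj ((EtCoh.push j).obj G)) :=
    hi_push j' _ (fun q hq => ((EtCoh.pull f).map_isZero (hG q hq)).of_iso (h3 q).some.symm) _ e0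
  exact HI.of_comp_right hD.w h4 h2

include hd in
/-- A torsion sheaf embeds in `j_* G ⊞ i_* i⁻¹ F`. -/
theorem exists_embed [QuasiCompact j] [QuasiSeparated j] (F : EtCoh.Ab X) (hF : EtCoh.IsTorsion F) :
    ∃ (J : EtCoh.Ab D) (_ : Injective J) (φ : F ⟶ (EtCoh.push j).obj (Etrest.Tors.tor.obj J) ⊞
      (EtCoh.push i).obj ((EtCoh.pull i).obj F)), Mono φ := by
  obtain ⟨J, hJ, α, hα⟩ := Etrest.AcycTors.exists_mono_tor ((EtCoh.pull j).obj F)
    (Etcore.Torsion.isTorsion_pull j F hF)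
  let a : F ⟶ (EtCoh.push j).obj (Etrest.Tors.tor.obj J) :=
    (EtCoh.pullPushAdj j).unit.app F ≫ (EtCoh.push j).map α
  let b : F ⟶ (EtCoh.push i).obj ((EtCoh.pull i).obj F) := (EtCoh.pullPushAdj i).unit.app F
  refine ⟨J, hJ, biprod.lift a b, ?_⟩
  rw [Preadditive.mono_iff_isZero_kernel]
  let k := kernel.ι (biprod.lift a b)
  have hk : k ≫ biprod.lift a b = 0 := kernel.condition _
  have ha : k ≫ a = 0 := by
    have := congrArg (fun z => z ≫ biprod.fst) hk
    simpa using this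
  have hb : k ≫ b = 0 := by
    have := congrArg (fun z => z ≫ biprod.snd) hk
    simpa using this
  have hpl : ∀ {Y : Scheme.{u}} (g : Y ⟶ X), Mono ((EtCoh.pull g).map k) := fun g => inferInstance
  refine Sga4h.H915.HIFin.isZero_of_both i j hd _ ?_ ?_
  · have h1 : (EtCoh.pull i).map k = 0 := by
      apply ((EtCoh.pullPushAdj i).homEquiv _ _).injective
      rw [Adjunction.homEquiv_unit, Adjunction.homEquiv_unit]
      have h2 := (EtCoh.pullPushAdj i).unit.naturality k
      rw [Functor.map_zero, comp_zero]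
      exact h2.symm.trans hb
    exact IsZero.of_mono_eq_zero _ h1
  · have h1 : (EtCoh.pull j).map k = 0 := by
      have h3 : (EtCoh.pull j).map k ≫ α = 0 := by
        apply ((EtCoh.pullPushAdj j).homEquiv _ _).injective
        rw [Adjunction.homEquiv_unit, Adjunction.homEquiv_unit]
        have h2 := (EtCoh.pullPushAdj j).unit.naturality k
        rw [Functor.map_zero, comp_zero, Functor.map_comp, ← Category.assoc]
        refine Eq.trans ?_ ha
        rw [← Category.assoc]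
        exact congrArg (fun z => z ≫ (EtCoh.push j).map α) h2.symm
      exact (cancel_mono α).1 (by rw [h3, zero_comp])
    exact (IsZero.of_mono_eq_zero _ h1).of_iso ((Etcore.ShriekBasic.pullIsoRestr j).app _).symm

include hd hZ in
/-- The criterion. -/
theorem hi_of_open_closed [QuasiCompact j] [QuasiSeparated j]
    (hP : ∀ G : EtCoh.Ab D, EtCoh.IsTorsion G → HI fD G)
    (hbc : ∀ G : EtCoh.Ab D, EtCoh.IsTorsion G → ∀ q, IsIso (K557.BcQ.bq hD.w.symm q G))
    (F : EtCoh.Ab X) (hF : EtCoh.IsTorsion F) : HI f F := by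
  refine HI.of_embed f EtCoh.IsTorsion (fun F hF => ?_) F hF
  obtain ⟨J, hJ, φ, hφ⟩ := exists_embed i j hd F hF
  have hJt := Etrest.TorsEt.isTorsion_tor J
  have h1 : EtCoh.IsTorsion ((EtCoh.push j).obj (Etrest.Tors.tor.obj J) ⊞
      (EtCoh.push i).obj ((EtCoh.pull i).obj F)) :=
    TorsionBasic.isTorsion_biprod (EtpbcA.RpushTors.isTorsion_push j _ hJt)
      (EtpbcA.RpushTors.isTorsion_push i _ (Etcore.Torsion.isTorsion_pull i F hF))
  refine ⟨_, φ, hφ, TorsionBasic.isTorsion_of_epi (cokernel.π φ) h1, HI.biprod f ?_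
    (hi_closed f i i' fZ hZ _)⟩
  exact hi_open f j j' fD hD _
    (fun q hq => Etrest.AcycTors.isZero_Rpush_tor j J q hq) (hP _ hJt) (hbc _ hJt)

end Main

end K141.HIStep
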