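import Groth.Agent.EtCoh.K141.HChain
import Groth.Agent.EtCoh.K23.FGMain

/-!
# Rigidity of the cohomology of torsion sheaves for henselian pairs (Gabber, Fujiwara)

`pstat`: the principal case (from `K23.FGMain`).
`HEq.quotients`: `(A, J)`, `(A', JA')` henselian, `J` finitely generated, `A/J^n = A'/J^nA'`, `U ⊇ Spec A ∖ V(J)`:
pullback along `U ×_A A' → U` is bijective on the cohomology of torsion sheaves (no noetherian hypothesis).
-/

set_option autoImplicit false
universe u

open CategoryTheory CategoryTheory.Limits AlgebraicGeometry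
open Groth.Agent.Sga4h.UlaGood Groth.Agent.Etrest.StrictLoc
open scoped Groth.Agent.Etcore.EtInst

namespace K141

theorem pstat : OpenStep.PStat.{u} := by
  intro A B _ _ φ t hA hB hc F hF
  rw [hi_iff_Hpull]
  intro q
  exact K23.FGMain.Hpull_bijective_away t (φ t) φ rfl
    (fun k a ha => by
      obtain ⟨b, hb⟩ := Ideal.mem_span_singleton.1 ha
      obtain ⟨a', ha'⟩ := hc.inj k a b hb
      exact Ideal.mem_span_singleton.2 ⟨a', ha'⟩)
    (fun k y => by
      obtain ⟨a, b, hb⟩ := hc.surj k y
      exact ⟨a, Ideal.mem_span_singleton.2 ⟨-b, by rw [hb]; ring⟩⟩)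
    (Localization.awayMap φ t) (fun a => IsLocalization.map_eq _ a) F hF q

theorem HEq.quotients (A A' : Type u) [CommRing A] [CommRing A'] (φ : A →+* A')
    (J : Ideal A) (hJ : J.FG) [HenselianRing A J] [HenselianRing A' (J.map φ)]
    (hq : ∀ n : ℕ, Function.Bijective (Ideal.quotientMap (Ideal.map φ (J ^ n)) φ Ideal.le_comap_map))
    (U : (Spec (CommRingCat.of A)).Opens) (hU : ∀ x : Spec (CommRingCat.of A), x ∉ U → J ≤ x.asIdeal) :
    HEq (Spec.map (CommRingCat.ofHom φ)) U :=
  HEq.of_quotients pstat A A' φ J hJ hq U hU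

end K141
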