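import Groth.Agent.Sga2lef.H107.FibreLoc
import Groth.Agent.Hensel.K141.FEtCong

/-!
# Strict localizations of ring maps which are isomorphisms modulo all powers of `t`

* `isStrictLoc_quot`: `Spec (R/aR) → Spec (A/a)` is a strict localization if `Spec R → Spec A` is.
* `cong_strict`: `Cong φ t` for `φ : A → B` implies `Cong` for the maps of strict localizations at points of `V(t)`.
-/

set_option autoImplicit false
universe u
open CategoryTheory CategoryTheory.Limits AlgebraicGeometry Opposite IsLocalRing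

namespace K141.StrictCong

open Groth.Agent.Etrest.StrictLoc Groth.Agent.Etrest.StrictLocBC Groth.Agent.Sga1.UlaSL
  Groth.Agent.Sga2lef.H107.FibreLoc

/-- The map `A/s → B/φ(s)`. -/
noncomputable def qm {A B : Type u} [CommRing A] [CommRing B] (φ : A →+* B) (s : A) :
    A ⧸ Ideal.span {s} →+* B ⧸ Ideal.span {φ s} :=
  Ideal.quotientMap (Ideal.span {φ s}) φ (by
    rw [Ideal.span_singleton_le_iff_mem, Ideal.mem_comap]
    exact Ideal.mem_span_singleton_self _)

theorem qm_mk {A B : Type u} [CommRing A] [CommRing B] (φ : A →+* B) (s : A) (x : A) :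
    qm φ s (Ideal.Quotient.mk _ x) = Ideal.Quotient.mk _ (φ x) := rfl

theorem isStrictLoc_quot {A R : Type u} [CommRing A] [CommRing R] [IsLocalRing R] (a : A →+* R)
    (ha : IsStrictLoc (spm a)) (s : A) (hs : a s ∈ maximalIdeal R) :
    ∃ (_ : IsLocalRing (R ⧸ Ideal.span {a s})), IsStrictLoc (spm (qm a s)) := by
  have hnt : Nontrivial (R ⧸ Ideal.span {a s}) := by
    refine Ideal.Quotient.nontrivial_iff.2 fun h => (maximalIdeal.isMaximal R).ne_top (top_le_iff.1 ?_)
    rw [← h, Ideal.span_singleton_le_iff_mem]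
    exact hs
  have hloc : IsLocalRing (R ⧸ Ideal.span {a s}) :=
    IsLocalRing.of_surjective' (Ideal.Quotient.mk _) Ideal.Quotient.mk_surjective
  have hJ : Ideal.span {a s} = (RingHom.ker (Ideal.Quotient.mk (Ideal.span {s}))).map a := by
    rw [Ideal.mk_ker, Ideal.map_span, Set.image_singleton]
  have sq := isPullback_quot a (Ideal.Quotient.mk (Ideal.span {s})) Ideal.Quotient.mk_surjective
    (Ideal.span {a s}) hJ (qm a s) (by ext x; rfl)
  have : IsLocalHom (Ideal.Quotient.mk (Ideal.span {a s})) :=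
    IsLocalHom.of_surjective _ Ideal.Quotient.mk_surjective
  have h5 := isStrictLoc_of_isPullback ha sq.flip (isLocAt_id (R ⧸ Ideal.span {a s}))
    (Ideal.Quotient.mk (Ideal.span {a s}))
    (RingHom.isIntegral_of_surjective _ Ideal.Quotient.mk_surjective) (Category.id_comp _).symm
  rw [Category.id_comp] at h5
  exact ⟨hloc, h5⟩

theorem bijective_qm {A B : Type u} [CommRing A] [CommRing B] {φ : A →+* B} {t : A} (h : Cong φ t)
    (n : ℕ) : Function.Bijective (qm φ (t ^ n)) := by
  constructor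
  · rw [injective_iff_map_eq_zero]
    intro x hx
    obtain ⟨x, rfl⟩ := Ideal.Quotient.mk_surjective x
    rw [qm_mk, Ideal.Quotient.eq_zero_iff_mem, Ideal.mem_span_singleton] at hx
    obtain ⟨c, hc⟩ := hx
    obtain ⟨a', ha⟩ := h.inj n x c (by rw [hc, map_pow])
    rw [Ideal.Quotient.eq_zero_iff_mem, Ideal.mem_span_singleton]
    exact ⟨a', ha⟩
  · intro y
    obtain ⟨y, rfl⟩ := Ideal.Quotient.mk_surjective y
    obtain ⟨a, b', hb⟩ := h.surj n y
    refine ⟨Ideal.Quotient.mk _ a, ?_⟩
    rw [qm_mk, Ideal.Quotient.eq, Ideal.mem_span_singleton]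
    exact ⟨-b', by rw [hb, map_pow]; ring⟩

theorem of_bijective_qm {A B : Type u} [CommRing A] [CommRing B] {φ : A →+* B} {t : A}
    (h : ∀ n, 0 < n → Function.Bijective (qm φ (t ^ n))) : Cong φ t := by
  constructor
  · intro n b
    rcases Nat.eq_zero_or_pos n with rfl | hn
    · exact ⟨0, b, by simp⟩
    obtain ⟨a, ha⟩ := (h n hn).2 (Ideal.Quotient.mk _ b)
    obtain ⟨a, rfl⟩ := Ideal.Quotient.mk_surjective a
    rw [qm_mk, Ideal.Quotient.eq, Ideal.mem_span_singleton, map_pow] at ha
    obtain ⟨c, hc⟩ := ha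
    exact ⟨a, -c, by linear_combination -hc⟩
  · intro n a b hab
    rcases Nat.eq_zero_or_pos n with rfl | hn
    · exact ⟨a, by simp⟩
    have h1 : qm φ (t ^ n) (Ideal.Quotient.mk _ a) = 0 := by
      rw [qm_mk, Ideal.Quotient.eq_zero_iff_mem, Ideal.mem_span_singleton, map_pow]
      exact ⟨b, hab⟩
    have h2 := (injective_iff_map_eq_zero _).1 (h n hn).1 _ h1
    rw [Ideal.Quotient.eq_zero_iff_mem, Ideal.mem_span_singleton] at h2
    exact h2

variable {A B R S : Type u} [CommRing A] [CommRing B] [CommRing R] [CommRing S] [IsLocalRing R]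
  [IsLocalRing S]

/-- `Cong` passes to strict localizations at points of `V(t)`. -/
theorem cong_strict {φ : A →+* B} {t : A} (h : Cong φ t) (a : A →+* R) (b : B →+* S)
    (ha : IsStrictLoc (spm a)) (hb : IsStrictLoc (spm b)) (β : R →+* S) [hβ : IsLocalHom β]
    (w : β.comp a = b.comp φ) (ht : a t ∈ maximalIdeal R) : Cong β (a t) := by
  refine of_bijective_qm fun n hn => ?_
  have e1 : b (φ (t ^ n)) = β (a (t ^ n)) := (RingHom.congr_fun w (t ^ n)).symm
  have ht1 : a (t ^ n) ∈ maximalIdeal R := by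
    rw [map_pow]
    exact Ideal.pow_mem_of_mem _ ht n hn
  have hle : ∀ x ∈ maximalIdeal R, β x ∈ maximalIdeal S := fun x hx => by
    have := ((local_hom_TFAE β).out 0 3).1 hβ
    exact this hx
  have ht2 : b (φ (t ^ n)) ∈ maximalIdeal S := by
    rw [e1]
    exact hle _ ht1
  obtain ⟨i1, h1⟩ := isStrictLoc_quot a ha (t ^ n) ht1
  obtain ⟨i2, h2⟩ := isStrictLoc_quot b hb (φ (t ^ n)) ht2
  have h3 := bijective_qm h n
  have i3 : IsIso (spm (qm φ (t ^ n))) := isIso_spm _ h3
  have h4 : IsStrictLoc (spm (qm b (φ (t ^ n))) ≫ spm (qm φ (t ^ n))) := h2.comp _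
  let g : R ⧸ Ideal.span {a (t ^ n)} →+* S ⧸ Ideal.span {b (φ (t ^ n))} :=
    Ideal.quotientMap _ β (by
      rw [Ideal.span_singleton_le_iff_mem, Ideal.mem_comap, ← e1]
      exact Ideal.mem_span_singleton_self _)
  have hg : ∀ x, g (Ideal.Quotient.mk _ x) = Ideal.Quotient.mk _ (β x) := fun x => rfl
  have i4 : IsLocalHom g := by
    refine ⟨fun x hx => ?_⟩
    obtain ⟨x, rfl⟩ := Ideal.Quotient.mk_surjective x
    rw [hg] at hx
    have i5 : IsLocalHom (Ideal.Quotient.mk (Ideal.span {b (φ (t ^ n))})) :=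
      IsLocalHom.of_surjective _ Ideal.Quotient.mk_surjective
    have h5 : IsUnit (β x) := isUnit_of_map_unit (Ideal.Quotient.mk _) _ hx
    exact (isUnit_of_map_unit β _ h5).map _
  have h6 : spm g ≫ spm (qm a (t ^ n)) = spm (qm b (φ (t ^ n))) ≫ spm (qm φ (t ^ n)) := by
    rw [← spm_comp, ← spm_comp]
    congr 1
    apply Ideal.Quotient.ringHom_ext
    ext x
    change Ideal.Quotient.mk _ (β (a x)) = Ideal.Quotient.mk _ (b (φ x))
    exact congrArg _ (RingHom.congr_fun w x)
  have h7 := h1.bijective h4 g h6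
  have e2 : ∀ (c : S) (_ : c = β (a (t ^ n))) (hc : Ideal.span {a (t ^ n)} ≤ (Ideal.span {c}).comap β),
      Function.Bijective (Ideal.quotientMap (Ideal.span {c}) β hc) →
      Function.Bijective (qm β (a (t ^ n))) := by
    rintro c rfl hc h
    exact h
  have e3 := e2 _ e1 _ h7
  rwa [map_pow] at e3

end K141.StrictCong
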