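import Groth.Agent.EtCoh.K141.HIStep
import Groth.Agent.EtCoh.K141.StrictCong
import Groth.Agent.Hensel.K141.GlueFF
import Groth.Agent.SGA4h.K557.WeakEt
import Groth.Agent.S0073
import Groth.Agent.S0528

/-!
# From `Spec A[1/t]` to open subschemes `U ⊆ Spec A` containing `D(t)`

`PStat`: for `φ : A → B` with `(A, t)`, `(B, t)` henselian and `A/t^n = B/t^n`, pullback along
`Spec B[1/t] → Spec A[1/t]` is bijective on the cohomology of torsion sheaves.
`hi_restrict`: `PStat` implies the same for `U ×_A B → U`, `U ⊇ D(t)` open.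
-/

set_option autoImplicit false
universe u
open CategoryTheory CategoryTheory.Limits AlgebraicGeometry Opposite Abelian IsLocalRing
open scoped Groth.Agent.Etcore.EtInst
open Groth.Agent.Etcore.EtInst Groth.Agent.Etcore.HpullCalc

namespace K141.OpenStep

open Groth.Agent Groth.Agent.Sga4h.UlaGood Groth.Agent.EtpbcB Groth.Agent.Etrest.StrictLoc
  Groth.Agent.Sga1.UlaSL K141.StrictCong K141.HIStep K557.WeakEt

/-- The principal case. -/
def PStat : Prop :=
  ∀ (A B : Type u) [CommRing A] [CommRing B] (φ : A →+* B) (t : A)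
    (_ : HenselianRing A (Ideal.span {t})) (_ : HenselianRing B (Ideal.span {φ t})) (_ : Cong φ t)
    (F : EtCoh.Ab (Spec (CommRingCat.of (Localization.Away t)))), EtCoh.IsTorsion F →
    HI (spm (Localization.awayMap φ t)) F

/-- Local homomorphisms of strictly henselian local rings. -/
theorem hi_strict {A C : Type u} [CommRing A] [CommRing C] [IsLocalRing A] [IsLocalRing C]
    (hA : HenselianLocalRing A) (hC : HenselianLocalRing C)
    (hA' : IsSepClosed (ResidueField A)) (hC' : IsSepClosed (ResidueField C))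
    (β : A →+* C) [IsLocalHom β] (F : EtCoh.Ab (Spec (CommRingCat.of A))) : HI (spm β) F := by
  intro q
  rcases Nat.eq_zero_or_pos q with rfl | hq
  · rw [bijective_hp_zero_iff, bijective_unitSec_iff]
    exact Etbc.H233.PtBC.UB_spm hA hC hA' hC' β F
  · have h1 : Subsingleton (HH (Spec (CommRingCat.of A)) F q) := Groth.Agent.S0073.result A F q hq
    have h2 : Subsingleton (HH (Spec (CommRingCat.of C)) ((EtCoh.pull (spm β)).obj F) q) :=
      Groth.Agent.S0073.result C _ q hq
    exact ⟨fun x y _ => Subsingleton.elim x y, fun y => ⟨0, Subsingleton.elim _ _⟩⟩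

theorem isPullback_of_comp_mono {C : Type*} [Category C] {P X Y Z W : C} {a : P ⟶ X} {b : P ⟶ Y}
    {f : X ⟶ Z} {g : Y ⟶ Z} (m : Z ⟶ W) [Mono m] (h : IsPullback a b (f ≫ m) (g ≫ m)) :
    IsPullback a b f g := by
  have w : a ≫ f = b ≫ g := by
    have := h.w
    rw [← Category.assoc, ← Category.assoc] at this
    exact (cancel_mono m).1 this
  refine ⟨⟨w⟩, ⟨PullbackCone.IsLimit.mk _ (fun s => h.lift s.fst s.snd ?_) ?_ ?_ ?_⟩⟩
  · rw [← Category.assoc, ← Category.assoc, s.condition]
  · intro s; exact h.lift_fst _ _ _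
  · intro s; exact h.lift_snd _ _ _
  · intro s k h1 h2
    apply h.hom_ext
    · rw [h1, h.lift_fst]
    · rw [h2, h.lift_snd]

/-- A morphism factoring through a monomorphism. -/
theorem isPullback_of_factor {C : Type*} [Category C] {T D U : C} (j : D ⟶ U) [Mono j] (a : T ⟶ D) :
    IsPullback a (𝟙 T) j (a ≫ j) := by
  have h1 : IsPullback a (𝟙 T) (𝟙 D) a :=
    (IsPullback.of_vert_isIso ⟨by simp⟩ : IsPullback a (𝟙 T) (𝟙 D) a)
  have h2 := Groth.Agent.Sga2lef.H107.FibreLoc.isPullback_comp_mono h1 j
  rwa [Category.id_comp] at h2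

/-- The square of localizations. -/
theorem exists_away {A B : Type u} [CommRing A] [CommRing B] (φ : A →+* B) (t : A) (s : B)
    (hs : φ t = s) : ∃ ψ : Localization.Away t →+* Localization.Away s,
      IsPullback (spm ψ) (spm (algebraMap B (Localization.Away s)))
        (spm (algebraMap A (Localization.Away t))) (spm φ) := by
  subst hs
  let _ : Algebra A B := φ.toAlgebra
  let _ : Algebra (Localization.Away t) (Localization.Away (algebraMap A B t)) :=
    (Localization.awayMap (algebraMap A B) t).toAlgebra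
  have hw : (Localization.awayMap (algebraMap A B) t).comp (algebraMap A (Localization.Away t)) =
      (algebraMap B (Localization.Away (algebraMap A B t))).comp (algebraMap A B) :=
    IsLocalization.map_comp _
  have i1 : IsScalarTower A (Localization.Away t) (Localization.Away (algebraMap A B t)) :=
    IsScalarTower.of_algebraMap_eq fun a => (DFunLike.congr_fun hw a).symm
  exact ⟨Localization.awayMap (algebraMap A B) t, K141.GlueFF.isPullback_away A B
    (Localization.Away t) (Localization.Away (algebraMap A B t)) t⟩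

section Main

open K141.GlueFF Groth.Agent.Pi1A.FEtAffine

variable {A B : Type u} [CommRing A] [CommRing B] [Algebra A B] {t : A}
  (U : (Spec (CommRingCat.of A)).Opens)
  (hU : ∀ x : Spec (CommRingCat.of A), x ∉ U → t ∈ x.asIdeal)

/-- `Spec A[1/t] → U`. -/
noncomputable abbrev jj : Spec (CommRingCat.of (Localization.Away t)) ⟶ (U : Scheme.{u}) :=
  jt U (Localization.Away t) hU

include hU in
theorem hU' : ∀ x : Spec (CommRingCat.of B), x ∉ (specMap A B ⁻¹ᵁ U) → algebraMap A B t ∈ x.asIdeal :=
  fun x hx => hU (specMap A B x) hx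

/-- `Spec B[1/t] → U'`. -/
noncomputable abbrev jj' : Spec (CommRingCat.of (Localization.Away (algebraMap A B t))) ⟶
    ((specMap A B ⁻¹ᵁ U : (Spec (CommRingCat.of B)).Opens) : Scheme.{u}) :=
  jj (specMap A B ⁻¹ᵁ U) (hU' U hU)

theorem isPullback_jj : IsPullback (jj' (B := B) U hU) (spm (Localization.awayMap (algebraMap A B) t))
    (specMap A B ∣_ U) (jj U hU) := by
  let _ : Algebra (Localization.Away t) (Localization.Away (algebraMap A B t)) :=
    (Localization.awayMap (algebraMap A B) t).toAlgebra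
  have hw : (Localization.awayMap (algebraMap A B) t).comp (algebraMap A (Localization.Away t)) =
      (algebraMap B (Localization.Away (algebraMap A B t))).comp (algebraMap A B) :=
    IsLocalization.map_comp _
  have i1 : IsScalarTower A (Localization.Away t) (Localization.Away (algebraMap A B t)) :=
    IsScalarTower.of_algebraMap_eq fun a => (DFunLike.congr_fun hw a).symm
  have h1 := K141.GlueFF.isPullback_away A B
    (Localization.Away t) (Localization.Away (algebraMap A B t)) t
  have h2 := isPullback_morphismRestrict (specMap A B) U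
  have e1 : jj' (B := B) U hU ≫ (specMap A B ⁻¹ᵁ U).ι =
    specMap B (Localization.Away (algebraMap A B t)) := jt_ι _ _ _
  have e2 : jj U hU ≫ U.ι = specMap A (Localization.Away t) := jt_ι _ _ _
  have h3 : jj' (B := B) U hU ≫ (specMap A B ∣_ U) =
      spm (Localization.awayMap (algebraMap A B) t) ≫ jj U hU := by
    rw [← cancel_mono U.ι, Category.assoc, Category.assoc, morphismRestrict_ι, e2,
      ← Category.assoc, e1]
    exact h1.flip.w
  rw [← e1, ← e2] at h1
  exact IsPullback.of_right h1.flip h3 h2.flip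

/-- A strictly local scheme mapping to `D(t)`. -/
theorem exists_factor {T : Type u} [CommRing T] (σ : Spec (CommRingCat.of T) ⟶ (U : Scheme.{u}))
    (a : A →+* T) (ha : spm a = σ ≫ U.ι) (ht : IsUnit (a t)) :
    ∃ σ₁ : Spec (CommRingCat.of T) ⟶ Spec (CommRingCat.of (Localization.Away t)),
      σ₁ ≫ jj U hU = σ := by
  refine ⟨IsOpenImmersion.lift (jj U hU) σ ?_, IsOpenImmersion.lift_fac _ _ _⟩
  rintro _ ⟨x, rfl⟩
  have h1 : t ∉ (U.ι (σ x) : PrimeSpectrum A).asIdeal := by
    rw [← Scheme.Hom.comp_apply, ← ha]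
    intro h
    have h2 : a t ∈ (x : PrimeSpectrum T).asIdeal := h
    exact x.isPrime.ne_top (Ideal.eq_top_of_isUnit_mem _ h2 ht)
  obtain ⟨z, hz⟩ := mem_range_jt U (Localization.Away t) hU (σ x) h1
  exact ⟨z, hz⟩

/-- The fibre over a strict localization at a point of `V(t)`. -/
theorem exists_sq {T : Type u} [CommRing T] (σ : Spec (CommRingCat.of T) ⟶ (U : Scheme.{u}))
    (a : A →+* T) (ha : spm a = σ ≫ U.ι) (s : T) (hs : a t = s) :
    ∃ σ₁ : Spec (CommRingCat.of (Localization.Away s)) ⟶ Spec (CommRingCat.of (Localization.Away t)),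
      IsPullback σ₁ (spm (algebraMap T (Localization.Away s))) (jj U hU) σ := by
  obtain ⟨ψ, hψ⟩ := exists_away a t s hs
  refine ⟨spm ψ, isPullback_of_comp_mono U.ι ?_⟩
  have e2 : jj U hU ≫ U.ι = specMap A (Localization.Away t) := jt_ι _ _ _
  rw [e2, ← ha]
  exact hψ

instance (R : Type u) [CommRing R] [Algebra A R] [IsLocalization.Away t R] :
    IsAffineHom (jt U R hU) := by
  have h1 : IsAffineHom (jt U R hU ≫ U.ι) := by
    rw [jt_ι]
    infer_instance
  exact IsAffineHom.of_comp _ U.ι

theorem isIso_bq (hP : PStat.{u}) (hc : Cong (algebraMap A B) t)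
    (G : EtCoh.Ab (Spec (CommRingCat.of (Localization.Away t)))) (hG : EtCoh.IsTorsion G) (q : ℕ) :
    IsIso (K557.BcQ.bq (isPullback_jj (B := B) U hU).w.symm q G) := by
  refine isIso_bq_of_forall _ q G (fun x => ?_)
  obtain ⟨C, _, _, τ, hτ, hx⟩ := exists_isStrictLoc _ x
  obtain ⟨A₁, _, _, σ, hσ, hy⟩ := exists_isStrictLoc _ ((specMap A B ∣_ U) x)
  have hA := hσ.henselian
  have hA' := hσ.sepClosed
  have hC := hτ.henselian
  have hC' := hτ.sepClosed
  obtain ⟨β, hβl, hβ⟩ := Groth.Agent.Etrest.VCBaseChange.exists_map hσ (τ ≫ specMap A B ∣_ U)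
    (by
      change (specMap A B ∣_ U) (τ (closedPoint C)) = _
      rw [hx, hy])
  obtain ⟨a, ha⟩ : ∃ a : A →+* A₁, spm a = σ ≫ U.ι :=
    ⟨(Spec.preimage (σ ≫ U.ι)).hom, Spec.map_preimage _⟩
  obtain ⟨b, hb⟩ : ∃ b : B →+* C, spm b = τ ≫ (specMap A B ⁻¹ᵁ U).ι :=
    ⟨(Spec.preimage (τ ≫ (specMap A B ⁻¹ᵁ U).ι)).hom, Spec.map_preimage _⟩
  have hw : β.comp a = b.comp (algebraMap A B) := by
    rw [← spm_inj, spm_comp, spm_comp, ha, hb, ← Category.assoc, hβ, Category.assoc, Category.assoc,
      morphismRestrict_ι]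
  have hs : b (algebraMap A B t) = β (a t) := (RingHom.congr_fun hw t).symm
  by_cases ht : a t ∈ maximalIdeal A₁
  · obtain ⟨aP, HP⟩ := exists_sq U hU σ a ha (a t) rfl
    obtain ⟨aP', HP'⟩ := exists_sq (specMap A B ⁻¹ᵁ U)
      (hU' U hU) τ b hb (β (a t)) hs
    have ha1 : IsStrictLoc (spm a) := by
      rw [ha]
      exact hσ.comp _
    have hb1 : IsStrictLoc (spm b) := by
      rw [hb]
      exact hτ.comp _
    have hcs : Cong β (a t) := cong_strict hc a b ha1 hb1 β hw ht
    have hle : ∀ x ∈ maximalIdeal A₁, β x ∈ maximalIdeal C := fun x hx => by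
      have := ((local_hom_TFAE β).out 0 3).1 hβl
      exact this hx
    have hh1 : HenselianRing A₁ (Ideal.span {a t}) :=
      ((Groth.Agent.S0528.result A₁ _ (maximalIdeal A₁)
        ((Ideal.span_singleton_le_iff_mem _).2 ht)).1 inferInstance).1
    have hh2 : HenselianRing C (Ideal.span {β (a t)}) :=
      ((Groth.Agent.S0528.result C _ (maximalIdeal C)
        ((Ideal.span_singleton_le_iff_mem _).2 (hle _ ht))).1 inferInstance).1
    have hk' : spm (Localization.awayMap β (a t)) ≫ spm (algebraMap A₁ (Localization.Away (a t))) =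
        spm (algebraMap C (Localization.Away (β (a t)))) ≫ spm β := by
      rw [← spm_comp, ← spm_comp]
      congr 1
      exact IsLocalization.map_comp _
    refine ⟨A₁, C, inferInstance, inferInstance, inferInstance, inferInstance, σ, τ, β, _, _, aP, _,
      aP', _, spm (Localization.awayMap β (a t)), hσ, hτ, hβl, hβ, hx, HP, HP', ?_, hk', ?_⟩
    · rw [← cancel_mono (jj U hU), Category.assoc, Category.assoc, HP.w,
        ← (isPullback_jj (B := B) U hU).w, ← Category.assoc, hk', Category.assoc, hβ,
        ← Category.assoc, ← HP'.w, Category.assoc]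
    · exact hP A₁ C β (a t) hh1 hh2 hcs _ (Etcore.Torsion.isTorsion_pull _ G hG) q
  · have hu : IsUnit (a t) := by
      by_contra h
      exact ht ((mem_maximalIdeal _).2 h)
    obtain ⟨σ₁, hσ₁⟩ := exists_factor U hU σ a ha hu
    obtain ⟨τ₁, hτ₁⟩ := exists_factor (specMap A B ⁻¹ᵁ U)
      (hU' U hU) τ b hb (by rw [hs]; exact hu.map β)
    have HP : IsPullback σ₁ (𝟙 _) (jj U hU) σ := by
      have := isPullback_of_factor (jj U hU) σ₁
      rwa [hσ₁] at this
    have HP' : IsPullback τ₁ (𝟙 _) (jj' (B := B) U hU) τ := by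
      have := isPullback_of_factor (jj' (B := B) U hU) τ₁
      rwa [hτ₁] at this
    refine ⟨A₁, C, inferInstance, inferInstance, inferInstance, inferInstance, σ, τ, β, _, _, σ₁, _,
      τ₁, _, spm β, hσ, hτ, hβl, hβ, hx, HP, HP', ?_, ?_, ?_⟩
    · rw [← cancel_mono (jj U hU), Category.assoc, Category.assoc, hσ₁,
        ← (isPullback_jj (B := B) U hU).w, hβ, ← Category.assoc, hτ₁]
    · rw [Category.comp_id, Category.id_comp]
    · exact hi_strict hA hC hA' hC' β _ q

/-- **From `D(t)` to `U`.** -/
theorem hi_restrict (hP : PStat.{u}) [hA : HenselianRing A (Ideal.span {t})]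
    [hB : HenselianRing B (Ideal.span {algebraMap A B t})] (hc : Cong (algebraMap A B) t)
    (hU : ∀ x : Spec (CommRingCat.of A), x ∉ U → t ∈ x.asIdeal)
    (F : EtCoh.Ab (U : Scheme.{u})) (hF : EtCoh.IsTorsion F) : HI (specMap A B ∣_ U) F := by
  let π : A →+* A ⧸ Ideal.span {t} := Ideal.Quotient.mk _
  have hπ : IsClosedImmersion (spm π) :=
    IsClosedImmersion.spec_of_surjective (CommRingCat.ofHom π) Ideal.Quotient.mk_surjective
  let i : pullback (spm π) U.ι ⟶ (U : Scheme.{u}) := pullback.snd (spm π) U.ι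
  have hi : IsClosedImmersion i := inferInstance
  have hq := Groth.Agent.Sga2lef.H107.FibreLoc.isPullback_quot (algebraMap A B) π
    Ideal.Quotient.mk_surjective (Ideal.span {algebraMap A B t})
    (by rw [Ideal.mk_ker, Ideal.map_span, Set.image_singleton]) (qm (algebraMap A B) t) (by ext x; rfl)
  have hbij : Function.Bijective (qm (algebraMap A B) t) := by
    have h1 := bijective_qm hc 1
    have h2 : ∀ s : A, s = t → Function.Bijective (qm (algebraMap A B) s) →
        Function.Bijective (qm (algebraMap A B) t) := by rintro s rfl h; exact h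
    exact h2 _ (pow_one t) h1
  have i1 : IsIso (spm (qm (algebraMap A B) t)) := isIso_spm _ hbij
  have hZ := Sga4h.H915.HIFin.exists_isIso_baseChange hq
    (isPullback_morphismRestrict (specMap A B) U).flip
  have hd : IsCompl (Set.range i) (Set.range (jj U hU)) := by
    have h1 : Set.range i = {x : (U : Scheme.{u}) | t ∈ (U.ι x : PrimeSpectrum A).asIdeal} := by
      rw [Scheme.Pullback.range_snd]
      ext x
      have h2 : Set.range (PrimeSpectrum.comap π) = PrimeSpectrum.zeroLocus (Ideal.span {t}) := by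
        rw [_root_.range_comap_of_surjective _ _ Ideal.Quotient.mk_surjective, Ideal.mk_ker]
      have h3 : ∀ y : PrimeSpectrum A, y ∈ Set.range (PrimeSpectrum.comap π) ↔ t ∈ y.asIdeal := by
        intro y
        rw [h2, PrimeSpectrum.mem_zeroLocus]
        exact Ideal.span_singleton_le_iff_mem _
      exact h3 _
    have h2 : Set.range (jj U hU) = {x : (U : Scheme.{u}) | t ∈ (U.ι x : PrimeSpectrum A).asIdeal}ᶜ := by
      ext x
      constructor
      · rintro ⟨z, rfl⟩
        exact notMem_of_jt U (Localization.Away t) hU z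
      · intro hx
        obtain ⟨z, hz⟩ := mem_range_jt U (Localization.Away t) hU x hx
        exact ⟨z, hz⟩
    rw [h1, h2]
    exact isCompl_compl
  exact hi_of_open_closed (specMap A B ∣_ U) i (jj U hU) hd _ _
    (IsPullback.of_hasPullback (specMap A B ∣_ U) i) (jj' (B := B) U hU) _
    (isPullback_jj (B := B) U hU) (fun G hG => hP A B (algebraMap A B) t hA hB hc G hG)
    (fun G hG q => isIso_bq U hU hP hc G hG q) F hF

end Main

end K141.OpenStep
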